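import Groth.Agent.Grpsch.MulFin
import Groth.Agent.Sga2lef.H24.ToPn
import Groth.Agent.S9710
import Groth.Agent.PicF.K248.Basic

/-!
# Symmetric projective embeddings of an abelian variety

`exists_symm_embedding`: an abelian variety over a field has a closed immersion into some `P^n_K` over `K` such that
`L = i^*O(1)` is symmetric.  `para`, `transl`, `pow`: the theorem of the square for such a module.
-/

set_option autoImplicit false

open CategoryTheory Limits MonoidalCategory CartesianMonoidalCategory AlgebraicGeometry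
open scoped MonObj

namespace K248.AVEmb

open Groth.Agent.Grpsch.PicGrp Groth.Agent.Grpsch.Cube Groth.Agent.Grpsch.MulFin Groth.Agent

universe u

variable {K : Type u} [Field K]

variable {A : Over (Spec (CommRingCat.of K))} [GrpObj A]

/-- The class of `L` is symmetric. -/
def Sym (L : Pic A.left) : Prop := pl (𝟙 A)⁻¹ L = L

theorem Sym.inv {L : Pic A.left} (h : Sym L) {T : Over (Spec (CommRingCat.of K))} (b : T ⟶ A) :
    pl b⁻¹ L = pl b L := by
  have h1 : b⁻¹ = b ≫ (𝟙 A)⁻¹ := by rw [GrpObj.comp_inv, Category.comp_id]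
  rw [h1, pl_comp, show pl (𝟙 A)⁻¹ L = L from h]

theorem Sym.pow {L : Pic A.left} (h : Sym L) (n : ℕ) : Sym (L ^ n) := by
  rw [Sym, map_pow, show pl (𝟙 A)⁻¹ L = L from h]

/-- **The parallelogram law** for symmetric classes. -/
theorem para [IsProper A.hom] [GeometricallyIntegral A.hom] {L : Pic A.left} (h : Sym L)
    {T : Over (Spec (CommRingCat.of K))} (a b : T ⟶ A) :
    pl (a * b) L * pl (a * b⁻¹) L = pl a L ^ 2 * pl b L ^ 2 := by
  have key := cube L a b b⁻¹
  rw [mul_assoc a b b⁻¹, mul_inv_cancel, mul_one, h.inv, pl_one, mul_one] at key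
  rw [← key, pow_two, pow_two]
  simp only [mul_assoc]

omit [GrpObj A] in
/-- The class of `L` pulled back along a constant morphism is trivial. -/
theorem pl_const (L : Pic A.left) {T : Over (Spec (CommRingCat.of K))}
    (y : 𝟙_ (Over (Spec (CommRingCat.of K))) ⟶ A) : pl (toUnit T ≫ y) L = 1 := by
  rw [pl_comp]
  have h1 : pl y L = 1 := by
    have h2 : ∀ c : Pic (Spec (CommRingCat.of K)), c = 1 := pic_spec_local K
    exact h2 (pl y L)
  rw [h1, map_one]

/-- Translation by a rational point. -/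
noncomputable def tr (y : 𝟙_ (Over (Spec (CommRingCat.of K))) ⟶ A) : A ⟶ A := 𝟙 A * (toUnit A ≫ y)

/-- **The theorem of the square** for a symmetric class and opposite translations. -/
theorem transl [IsProper A.hom] [GeometricallyIntegral A.hom] {L : Pic A.left} (h : Sym L)
    (y : 𝟙_ (Over (Spec (CommRingCat.of K))) ⟶ A) : pl (tr y) L * pl (tr y⁻¹) L = L ^ 2 := by
  have key := para h (𝟙 A) (toUnit A ≫ y)
  rw [pl_const, one_pow, mul_one, show pl (𝟙 A) L = L from pull_id L] at key
  rw [tr, tr, GrpObj.comp_inv]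
  exact key

theorem pow_sq [IsProper A.hom] [GeometricallyIntegral A.hom] {L : Pic A.left} (h : Sym L) (n : ℕ) :
    pl (𝟙 A ^ n) L = L ^ (n ^ 2) := by
  have key := pl_pow_of_symm L (𝟙 A) h n
  rwa [show pl (𝟙 A) L = L from pull_id L] at key

/-- `t_y^*L ⊗ t_{-y}^*L ≅ L ⊗ L`. -/
theorem nonempty_iso_transl [IsProper A.hom] [GeometricallyIntegral A.hom] {L : A.left.Modules}
    (hL : PicF.IsInvertible L) (h : Sym (mk L hL)) (y : 𝟙_ (Over (Spec (CommRingCat.of K))) ⟶ A) :
    Nonempty (CohB1.tensorMod ((Scheme.Modules.pullback (tr y).left).obj L)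
      ((Scheme.Modules.pullback (tr y⁻¹).left).obj L) ≅ CohB1.tensorMod L L) := by
  have hp : ∀ f : A ⟶ A, PicF.IsInvertible ((Scheme.Modules.pullback f.left).obj L) := fun f =>
    Groth.Agent.Fdesc.LocGen.isInvertible_pullback _ hL
  have key := transl h y
  have h1 : pl (tr y) (mk L hL) = mk _ (hp _) := pull_mk _ hL
  have h2 : pl (tr y⁻¹) (mk L hL) = mk _ (hp _) := pull_mk _ hL
  rw [h1, h2, pow_two, mk_mul_mk, mk_mul_mk, mk_eq_iff] at key
  exact key

/-- `μ^*L ⊗ δ^*L ≅ (p_1^*L ⊗ p_1^*L) ⊗ (p_2^*L ⊗ p_2^*L)` on `A × A` (any pair of `T`-points). -/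
theorem nonempty_iso_para [IsProper A.hom] [GeometricallyIntegral A.hom] {L : A.left.Modules}
    (hL : PicF.IsInvertible L) (h : Sym (mk L hL)) {T : Over (Spec (CommRingCat.of K))} (a b : T ⟶ A) :
    Nonempty (CohB1.tensorMod ((Scheme.Modules.pullback (a * b).left).obj L)
      ((Scheme.Modules.pullback (a * b⁻¹).left).obj L) ≅
      CohB1.tensorMod (CohB1.tensorMod ((Scheme.Modules.pullback a.left).obj L)
        ((Scheme.Modules.pullback a.left).obj L))
        (CohB1.tensorMod ((Scheme.Modules.pullback b.left).obj L)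
        ((Scheme.Modules.pullback b.left).obj L))) := by
  have hp : ∀ f : T ⟶ A, PicF.IsInvertible ((Scheme.Modules.pullback f.left).obj L) := fun f =>
    Groth.Agent.Fdesc.LocGen.isInvertible_pullback _ hL
  have key := para h a b
  have h0 : ∀ f : T ⟶ A, pl f (mk L hL) = mk _ (hp f) := fun f => pull_mk _ hL
  rw [h0, h0, h0, h0, pow_two, pow_two, mk_mul_mk, mk_mul_mk, mk_mul_mk, mk_mul_mk, mk_eq_iff] at key
  exact key

/-- **Symmetric projective embeddings**. -/
theorem exists_symm_embedding (A : Over (Spec (CommRingCat.of K))) [GrpObj A] [IsProper A.hom]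
    [GeometricallyIntegral A.hom] : ∃ (n : ℕ) (i : A.left ⟶ CohB1.ProjSpace n K)
      (hL : PicF.IsInvertible ((Scheme.Modules.pullback i).obj (Twist.twistProjSpace n K 1))),
      IsClosedImmersion i ∧ i ≫ CohB1.ProjSpace.toSpec n K = A.hom ∧ Sym (mk _ hL) := by
  obtain ⟨M, hM, hsym⟩ := exists_symm_ample A
  obtain ⟨d, hd, H⟩ := Groth.Agent.S9710.result A.hom M hM
  obtain ⟨r, j, hj, hjA, ⟨e⟩⟩ := Groth.Agent.Sga2lef.H24.ToPn.exists_closedImmersion A.hom _ (H d le_rfl)
  have hMd : PicF.IsInvertible (CohB1.tensorPow M d) := Groth.Agent.Fdesc.LocGen.isInvertible_tensorPow hM.1 _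
  have hL : PicF.IsInvertible ((Scheme.Modules.pullback j).obj (Twist.twistProjSpace r K 1)) :=
    K248.Basic.isInvertible_of_iso e hMd
  refine ⟨r, j, hL, hj, hjA, ?_⟩
  have h1 : mk _ hL = mk M hM.1 ^ d := by
    rw [← mk_tensorPow hM.1, mk_eq_iff]
    exact ⟨e.symm⟩
  rw [h1]
  exact Sym.pow hsym d

end K248.AVEmb
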