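import Groth.Agent.MultTori.K248.WMKum
import Groth.Agent.Sga3.H739.KerPts
import Groth.Agent.Sga3.H827.DSFlat
import Groth.Agent.Flat2D.LfpComp
import Mathlib.AlgebraicGeometry.Morphisms.FinitePresentation
import Mathlib.GroupTheory.Archimedean

/-!
# First fppf cohomology of diagonalizable groups: finite generation from units and `H¹(𝔾_m)`

* `isKernel_DSmap`: `D(Q) ⟶ D(M) ⟶ D(N)` for `0 ⟶ N ⟶ M ⟶ Q ⟶ 0`;
* `fg_H1_DS`: if the units of `Γ(S, 𝒪)` and `H¹_fppf(S, 𝔾_m)` are finitely generated, then so is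
  `H¹_fppf(S, D(M))` for every finitely generated `M`.
-/

set_option autoImplicit false
universe u
open CategoryTheory CategoryTheory.Limits MonoidalCategory CartesianMonoidalCategory MonObj GrpObj AlgebraicGeometry
open Groth.Agent.Sga3B.DSPts

namespace K248.WMDS

variable {S : Scheme.{u}} {M N Q : Type} [AddCommGroup M] [AddCommGroup N] [AddCommGroup Q]

theorem ds_ext' {T : Over S} {x y : T ⟶ Red.DS S M} (h : dsChar x = dsChar y) : x = y := by
  rw [← dsEquiv_dsChar x, h, dsEquiv_dsChar]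

theorem dsChar_one {T : Over S} : dsChar (1 : T ⟶ Red.DS S M) = 1 := by
  simp [dsChar]

theorem mono_DSmap (g : M →+ Q) (hg : Function.Surjective g) : Mono (Red.DSmap S g) where
  right_cancellation {T} x y h := by
    apply ds_ext'
    have h1 := congrArg dsChar h
    rw [dsChar_DSmap, dsChar_DSmap] at h1
    refine MonoidHom.ext fun z => ?_
    obtain ⟨w, hw⟩ := hg z.toAdd
    have h2 := congrArg (fun f : Multiplicative M →* _ => f (Multiplicative.ofAdd w)) h1
    have hz : z = AddMonoidHom.toMultiplicative g (Multiplicative.ofAdd w) := by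
      apply Multiplicative.toAdd.injective
      exact hw.symm
    rw [hz]
    exact h2

theorem exists_char (φ : N →+ M) (g : M →+ Q) (hg : Function.Surjective g) (hφ : ∀ m, g m = 0 → ∃ n, φ n = m)
    {E : Type*} [CommRing E] (χ : Multiplicative M →* E) (h : χ.comp (AddMonoidHom.toMultiplicative φ) = 1) :
    ∃ χ' : Multiplicative Q →* E, χ'.comp (AddMonoidHom.toMultiplicative g) = χ := by
  have hs : Function.Surjective (AddMonoidHom.toMultiplicative g) := fun z => by
    obtain ⟨w, hw⟩ := hg z.toAdd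
    exact ⟨Multiplicative.ofAdd w, Multiplicative.toAdd.injective hw⟩
  let ψ : Multiplicative M →* Eˣ := χ.toHomUnits
  have hψ : ∀ x, (ψ x : E) = χ x := fun x => rfl
  have hker : (AddMonoidHom.toMultiplicative g).ker ≤ ψ.ker := by
    intro x hx
    obtain ⟨n, hn⟩ := hφ x.toAdd (congrArg Multiplicative.toAdd hx)
    rw [MonoidHom.mem_ker]
    apply Units.ext
    rw [hψ, Units.val_one]
    have h1 := congrArg (fun f : Multiplicative N →* E => f (Multiplicative.ofAdd n)) h
    have h2 : x = AddMonoidHom.toMultiplicative φ (Multiplicative.ofAdd n) := Multiplicative.toAdd.injective hn.symm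
    rw [h2]
    exact h1
  let ψ' := MonoidHom.liftOfSurjective (AddMonoidHom.toMultiplicative g) hs ⟨ψ, hker⟩
  refine ⟨(Units.coeHom E).comp ψ', MonoidHom.ext fun x => ?_⟩
  have h3 := MonoidHom.liftOfRightInverse_comp_apply (AddMonoidHom.toMultiplicative g) _
    (Function.rightInverse_surjInv hs) ⟨ψ, hker⟩ x
  exact congrArg Units.val h3

theorem isKernel_DSmap (φ : N →+ M) (g : M →+ Q) (hg : Function.Surjective g) (hφ : ∀ m, g m = 0 → ∃ n, φ n = m)
    (hgφ : ∀ n, g (φ n) = 0) : AlgGrp.IsKernel (Red.DSmap S g) (Red.DSmap S φ) := by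
  have := mono_DSmap (S := S) g hg
  refine Groth.Agent.Sga3.H739.KerPts.isPullback_of_pts ?_ ?_
  · rw [← Hom.one_def]
    apply ds_ext'
    rw [dsChar_DSmap, dsChar_one]
    refine MonoidHom.ext fun x => ?_
    have h1 := dsChar_DSmap g (𝟙 (Red.DS S Q))
    rw [Category.id_comp] at h1
    rw [h1]
    change dsChar (𝟙 (Red.DS S Q)) (Multiplicative.ofAdd (g (φ x.toAdd))) = 1
    rw [hgφ]
    exact map_one _
  · intro T x hx
    have h1 : (dsChar x).comp (AddMonoidHom.toMultiplicative φ) = 1 := by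
      rw [← dsChar_DSmap, hx, dsChar_one]
    obtain ⟨χ', hχ'⟩ := exists_char φ g hg hφ (dsChar x) h1
    refine ⟨dsEquiv T _ χ', ds_ext' ?_⟩
    rw [dsChar_DSmap, dsChar_dsEquiv, hχ']

variable (S)

theorem lfp_DS (hM : AddGroup.FG M) : LocallyOfFinitePresentation (Red.DS S M).hom := by
  have h1 : LocallyOfFinitePresentation (Red.diag (ULift.{u} ℤ) M).hom := by
    change LocallyOfFinitePresentation (Spec.map (CommRingCat.ofHom
      (algebraMap (ULift.{u} ℤ) (MonoidAlgebra (ULift.{u} ℤ) (Multiplicative M)))))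
    rw [HasRingHomProperty.Spec_iff (P := @LocallyOfFinitePresentation)]
    have : IsNoetherianRing (ULift.{u} ℤ) := isNoetherianRing_of_ringEquiv ℤ ULift.ringEquiv.symm
    have h1 : Monoid.FG (Multiplicative M) := by
      have : AddGroup.FG M := hM
      have : Group.FG (Multiplicative M) := inferInstance
      exact Group.fg_iff_monoid_fg.mp this
    have h2 : Algebra.FiniteType (ULift.{u} ℤ) (MonoidAlgebra (ULift.{u} ℤ) (Multiplicative M)) :=
      MonoidAlgebra.finiteType_of_fg
    have h3 : Algebra.FinitePresentation (ULift.{u} ℤ) (MonoidAlgebra (ULift.{u} ℤ) (Multiplicative M)) :=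
      Algebra.FinitePresentation.of_finiteType.mp h2
    rw [CommRingCat.hom_ofHom, RingHom.finitePresentation_algebraMap]
    exact h3
  exact MorphismProperty.pullback_snd _ _ h1

variable {S}

theorem lfp_DSmap (φ : N →+ M) (hM : AddGroup.FG M) (hN : AddGroup.FG N) :
    LocallyOfFinitePresentation (Red.DSmap S φ).left := by
  have h1 := lfp_DS S hM
  have h2 := lfp_DS S hN
  have h3 : LocallyOfFinitePresentation ((Red.DSmap S φ).left ≫ (Red.DS S N).hom) := by
    rw [Over.w]; exact h1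
  exact Groth.Agent.Flat2D.LfpComp.lfp_of_comp _ (Red.DS S N).hom

/-- The first cohomology of the diagonalizable group is finitely generated. -/
def P (S : Scheme.{u}) (M : Type) [AddCommGroup M] : Prop :=
  AddGroup.FG (BigSite.H Scheme.fppfPrecoverage S (CGrpSh.pts Scheme.fppfPrecoverage (Red.DS S M)) 1)

theorem isMonHom_DSmap (φ : N →+ M) : IsMonHom (Red.DSmap S φ) where
  one_hom := by
    apply ds_ext'
    rw [dsChar_DSmap]
    have h1 : (η[Red.DS S M] : 𝟙_ (Over S) ⟶ Red.DS S M) = 1 := MonObj.one_eq_one _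
    have h2 : (η[Red.DS S N] : 𝟙_ (Over S) ⟶ Red.DS S N) = 1 := MonObj.one_eq_one _
    rw [h1, h2, dsChar_one, dsChar_one]
    rfl
  mul_hom := by
    apply ds_ext'
    rw [dsChar_DSmap, MonObj.mul_eq_mul, MonObj.mul_eq_mul, dsChar_mul, MonObj.comp_mul, dsChar_mul, tensorHom_fst,
      tensorHom_snd, dsChar_DSmap, dsChar_DSmap]
    rfl

theorem P_ext (φ : N →+ M) (g : M →+ Q) (hφi : Function.Injective φ) (hg : Function.Surjective g)
    (hφ : ∀ m, g m = 0 → ∃ n, φ n = m) (hgφ : ∀ n, g (φ n) = 0) (hM : AddGroup.FG M) (hN : AddGroup.FG N)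
    (h1 : P S N) (h2 : P S Q) : P S M := by
  have := isMonHom_DSmap (S := S) φ
  have := isMonHom_DSmap (S := S) g
  have := Groth.Agent.Sga3.H827.DSFlat.flat_DSmap φ S hφi
  have := Groth.Agent.Sga3.H827.DSFlat.surjective_DSmap φ S hφi
  have := lfp_DSmap (S := S) φ hM hN
  exact WMKum.fg_mid (Red.DSmap S g) (Red.DSmap S φ) (isKernel_DSmap φ g hg hφ hgφ) h2 h1

theorem P_quot (φ : N →+ M) (g : M →+ Q) (hφi : Function.Injective φ) (hg : Function.Surjective g)
    (hφ : ∀ m, g m = 0 → ∃ n, φ n = m) (hgφ : ∀ n, g (φ n) = 0) (hM : AddGroup.FG M) (hN : AddGroup.FG N)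
    (h0 : Group.FG (𝟙_ (Over S) ⟶ Red.DS S N)) (h1 : P S M) : P S Q := by
  have := isMonHom_DSmap (S := S) φ
  have := isMonHom_DSmap (S := S) g
  have := Groth.Agent.Sga3.H827.DSFlat.flat_DSmap φ S hφi
  have := Groth.Agent.Sga3.H827.DSFlat.surjective_DSmap φ S hφi
  have := lfp_DSmap (S := S) φ hM hN
  exact WMKum.fg_left (Red.DSmap S g) (Red.DSmap S φ) (isKernel_DSmap φ g hg hφ hgφ) h0 h1

theorem fg_points (hU : Group.FG Γ(S, ⊤)ˣ) : Group.FG (𝟙_ (Over S) ⟶ Red.DS S ℤ) := by
  let e1 : Γ(S, ⊤)ˣ ≃* (Multiplicative ℤ →* Γ(S, ⊤)ˣ) := zpowersMulHom _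
  let e2 : (Multiplicative ℤ →* Γ(S, ⊤)ˣ) →* (Multiplicative ℤ →* Γ(S, ⊤)) :=
    { toFun := fun f => (Units.coeHom _).comp f
      map_one' := rfl
      map_mul' := fun _ _ => rfl }
  have h2 : Function.Surjective e2 := fun χ => ⟨χ.toHomUnits, rfl⟩
  have h3 : Function.Surjective (((dsEquiv (𝟙_ (Over S)) ℤ).toMonoidHom.comp e2).comp e1.toMonoidHom) :=
    ((dsEquiv (𝟙_ (Over S)) ℤ).surjective.comp h2).comp e1.surjective
  exact Group.fg_of_surjective h3

theorem P_unit (hU : Group.FG Γ(S, ⊤)ˣ) (hP : P S ℤ) : P S PUnit.{1} :=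
  P_quot (AddMonoidHom.id ℤ) (0 : ℤ →+ PUnit.{1}) Function.injective_id (fun _ => ⟨0, rfl⟩) (fun m _ => ⟨m, rfl⟩)
    (fun _ => rfl) inferInstance inferInstance (fg_points hU) hP

theorem P_iso (hU : Group.FG Γ(S, ⊤)ˣ) (hP : P S ℤ) (e : N ≃+ M) (hN : AddGroup.FG N) (h : P S N) : P S M := by
  have hM : AddGroup.FG M := AddGroup.fg_of_surjective (f := e.toAddMonoidHom) e.surjective
  exact P_ext e.toAddMonoidHom (0 : M →+ PUnit.{1}) e.injective (fun _ => ⟨0, rfl⟩) (fun m _ => e.surjective m)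
    (fun _ => rfl) hM hN h (P_unit hU hP)

theorem P_cyc (hU : Group.FG Γ(S, ⊤)ˣ) (hP : P S ℤ) (f : ℤ →+ M) (hf : Function.Surjective f) : P S M := by
  obtain ⟨n, hn⟩ := Int.subgroup_cyclic f.ker
  by_cases h0 : n = 0
  · have h1 : Function.Injective f := by
      rw [← AddMonoidHom.ker_eq_bot_iff, hn, h0, AddSubgroup.closure_singleton_zero]
    exact P_iso hU hP (AddEquiv.ofBijective f ⟨h1, hf⟩) inferInstance hP
  · refine P_quot (AddMonoidHom.mulLeft n) f (fun a b hab => ?_) hf (fun m hm => ?_) (fun a => ?_) inferInstance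
      inferInstance (fg_points hU) hP
    · exact mul_left_cancel₀ h0 hab
    · have h1 : m ∈ f.ker := hm
      rw [hn, AddSubgroup.mem_closure_singleton] at h1
      obtain ⟨k, hk⟩ := h1
      refine ⟨k, ?_⟩
      rw [← hk, smul_eq_mul, _root_.mul_comm]
      rfl
    · have h1 : n * a ∈ f.ker := by
        rw [hn, AddSubgroup.mem_closure_singleton]
        exact ⟨a, by rw [smul_eq_mul, _root_.mul_comm]⟩
      exact h1

theorem P_fin (hU : Group.FG Γ(S, ⊤)ˣ) (hP : P S ℤ) (n : ℕ) :
    ∀ (M : Type) [AddCommGroup M] (v : Fin n → M), AddSubgroup.closure (Set.range v) = ⊤ → P S M := by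
  induction n with
  | zero =>
    intro M _ v hv
    rw [Set.range_eq_empty, AddSubgroup.closure_empty] at hv
    have : Subsingleton M := by
      rw [← AddSubgroup.subsingleton_iff]
      exact subsingleton_of_bot_eq_top hv
    exact P_cyc hU hP 0 fun m => ⟨0, Subsingleton.elim _ _⟩
  | succ n ih =>
    intro M _ v hv
    let K : AddSubgroup M := AddSubgroup.closure (Set.range fun i : Fin n => v i.castSucc)
    have hM : AddGroup.FG M := ⟨⟨(Set.finite_range v).toFinset, by simpa using hv⟩⟩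
    have hmod : Module.Finite ℤ M := Module.Finite.iff_addGroup_fg.2 hM
    have hK : AddGroup.FG K := by
      have : Module.Finite ℤ (AddSubgroup.toIntSubmodule K) := inferInstance
      exact Module.Finite.iff_addGroup_fg.1 this
    have h1 : P S K := by
      refine ih K (fun i => ⟨v i.castSucc, AddSubgroup.subset_closure ⟨i, rfl⟩⟩) ?_
      have h := AddSubgroup.closure_closure_coe_preimage (k := Set.range fun i : Fin n => v i.castSucc)
      rw [← h]
      congr 1
      ext x
      constructor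
      · rintro ⟨i, rfl⟩
        exact ⟨i, rfl⟩
      · rintro ⟨i, hi⟩
        exact ⟨i, Subtype.ext hi⟩
    have h2 : P S (M ⧸ K) := by
      refine P_cyc hU hP (zmultiplesHom _ (QuotientAddGroup.mk' K (v (Fin.last n)))) ?_
      have h3 : (zmultiplesHom _ (QuotientAddGroup.mk' K (v (Fin.last n)))).range = ⊤ := by
        rw [eq_top_iff, ← AddSubgroup.map_top_of_surjective (QuotientAddGroup.mk' K)
          (QuotientAddGroup.mk'_surjective K), ← hv, AddMonoidHom.map_closure, AddSubgroup.closure_le]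
        rintro _ ⟨_, ⟨i, rfl⟩, rfl⟩
        refine Fin.lastCases ?_ (fun j => ?_) i
        · exact ⟨1, by simp⟩
        · have h4 : QuotientAddGroup.mk' K (v j.castSucc) = 0 :=
            (QuotientAddGroup.eq_zero_iff _).2 (AddSubgroup.subset_closure ⟨j, rfl⟩)
          rw [h4]
          exact zero_mem _
      exact AddMonoidHom.range_eq_top.1 h3
    exact P_ext K.subtype (QuotientAddGroup.mk' K) Subtype.coe_injective (QuotientAddGroup.mk'_surjective K)
      (fun m hm => ⟨⟨m, (QuotientAddGroup.eq_zero_iff m).1 hm⟩, rfl⟩)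
      (fun x => (QuotientAddGroup.eq_zero_iff _).2 x.2) hM hK h1 h2

/-- Every finitely generated diagonalizable group. -/
theorem fg_H1_DS (hU : Group.FG Γ(S, ⊤)ˣ) (hP : P S ℤ) (M : Type) [AddCommGroup M] (hM : AddGroup.FG M) : P S M := by
  obtain ⟨s, hs⟩ := hM.out
  refine P_fin hU hP s.card M (fun i => (s.equivFin.symm i : M)) ?_
  rw [← hs]
  congr 1
  ext x
  constructor
  · rintro ⟨i, rfl⟩
    exact (s.equivFin.symm i).2
  · intro hx
    exact ⟨s.equivFin ⟨x, hx⟩, by simp⟩

end K248.WMDS
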