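import Groth.Agent.MultTori.K248.WMUfd
import Groth.Agent.MultTori.K248.WMConst
import Groth.Agent.MultTori.K248.WMPts
import Groth.Agent.MultTori.K85.ConstMT
import Groth.Agent.AbSch.K454.MulEpi
import Groth.Agent.S7789
import Groth.Agent.S7785

/-!
# `X(B) / m` is finite for an abelian scheme over a factorial regular domain, all `m`-torsion rational
-/

set_option autoImplicit false
universe u
open CategoryTheory MonoidalCategory CartesianMonoidalCategory MonObj GrpObj AlgebraicGeometry Limits Opposite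

namespace K248.WMFin

open Groth.Agent

/-- Transport of finite generation of the first cohomology along an isomorphism of group schemes. -/
theorem fg_of_iso {S : Scheme.{u}} {G H : Over S} [GrpObj G] [IsCommMonObj G] [GrpObj H] [IsCommMonObj H]
    (e : Grp.mk G ≅ Grp.mk H)
    (h : AddGroup.FG (BigSite.H Scheme.fppfPrecoverage S (CGrpSh.pts Scheme.fppfPrecoverage H) 1)) :
    AddGroup.FG (BigSite.H Scheme.fppfPrecoverage S (CGrpSh.pts Scheme.fppfPrecoverage G) 1) := by
  have i1 : IsMonHom e.hom.hom.hom := inferInstance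
  have i2 : IsMonHom e.inv.hom.hom := inferInstance
  let f := CGrpSh.ptsMap Scheme.fppfPrecoverage e.inv.hom.hom
  let g := CGrpSh.ptsMap Scheme.fppfPrecoverage e.hom.hom.hom
  have h1 : e.hom.hom.hom ≫ e.inv.hom.hom = 𝟙 G :=
    congrArg (fun z => z.hom.hom) e.hom_inv_id
  have hgf : g ≫ f = 𝟙 _ := by
    rw [← CGrpSh.ptsMap_id]
    refine (CGrpSh.ptsMap_comp _ _ _).symm.trans ?_
    congr 1
  refine AddGroup.fg_of_surjective (f := Sheaf.H.map f 1) fun x => ⟨Sheaf.H.map g 1 x, ?_⟩
  rw [← Sheaf.H.map_comp_apply, hgf, Sheaf.H.map_id_apply]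

/-- The index set of a quasi-compact constant scheme is finite. -/
theorem finite_of_const {S : Scheme.{u}} [Nonempty S] [CompactSpace S] {C : Type u} {G : Over S}
    (e : G ≅ TwC.const S C) [QuasiCompact G.hom] : Finite C := by
  have h1 : CompactSpace G.left := QuasiCompact.compactSpace_of_compactSpace G.hom
  let a : G.left ≅ (∐ fun _ : C => S : Scheme.{u}) := (Over.forget _).mapIso e
  have h2 : CompactSpace ((∐ fun _ : C => S : Scheme.{u}) : Scheme.{u}) :=
    (inferInstance : Surjective a.hom).surj.compactSpace a.hom.continuous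
  have h3 : CompactSpace (Σ _ : C, S) := (sigmaMk (fun _ : C => S)).symm.compactSpace
  let _ : TopologicalSpace C := ⊥
  have : DiscreteTopology C := ⟨rfl⟩
  have h4 : Continuous (fun x : Σ _ : C, S => x.1) := by
    rw [continuous_sigma_iff]
    intro i
    exact continuous_const
  obtain ⟨s⟩ : Nonempty S := inferInstance
  have h5 : Function.Surjective (fun x : Σ _ : C, S => x.1) := fun c => ⟨⟨c, s⟩, rfl⟩
  have h6 : CompactSpace C := h5.compactSpace h4
  exact finite_of_compact_of_discrete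

/-- The kernel of multiplication by an integer which is invertible on the base. -/
theorem exists_torsion {S : Scheme.{u}} (X : Over S) [GrpObj X] [IsProper X.hom] [Smooth X.hom]
    [GeometricallyConnected X.hom] (m : ℕ) (hm : IsUnit (m : Γ(S, ⊤))) (hm0 : m ≠ 0) :
    IsCommMonObj X ∧ Flat ((𝟙 X : X ⟶ X) ^ m).left ∧ Surjective ((𝟙 X : X ⟶ X) ^ m).left ∧
      LocallyOfFinitePresentation ((𝟙 X : X ⟶ X) ^ m).left ∧
      ∃ (N : Over S) (_ : GrpObj N) (_ : IsCommMonObj N) (k : N ⟶ X), IsMonHom k ∧ Mono k ∧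
        AlgGrp.IsKernel k ((𝟙 X : X ⟶ X) ^ m) ∧ IsFinite N.hom ∧ Etale N.hom := by
  have hgr := K448.SmoothConn.geometricallyReduced X.hom
  have hcomm : IsCommMonObj X := S7785.result X
  have hz : (𝟙 X : X ⟶ X) ^ (m : ℤ) = (𝟙 X : X ⟶ X) ^ m := zpow_natCast _ _
  obtain ⟨h1, h2⟩ := S7789.result X (m : ℤ) (by simpa using hm)
  obtain ⟨-, h3, h4⟩ := K454.MulEpi.isFinite_flat_surjective_zpow X (m : ℤ) (by exact_mod_cast hm0)
  rw [hz] at h1 h2 h3 h4
  have hmon : IsMonHom ((𝟙 X : X ⟶ X) ^ m) := WMKum.isMonHom_pow m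
  obtain ⟨N, hN, k, hk, hpb⟩ := Sga3.H739.KerPts.exists_kernel ((𝟙 X : X ⟶ X) ^ m)
  have hmono : Mono k := Sga3.H739.KerPts.mono_of_isPullback hpb
  have hNc : IsCommMonObj N := by
    constructor
    rw [← cancel_mono k, Category.assoc, IsMonHom.mul_hom, ← BraidedCategory.braiding_naturality_assoc,
      IsCommMonObj.mul_comm]
  have hsq : IsPullback k.left (toUnit N).left ((𝟙 X : X ⟶ X) ^ m).left (η[X] : 𝟙_ (Over S) ⟶ X).left :=
    hpb.map (Over.forget S)
  have hNh : (toUnit N).left = N.hom := (Category.comp_id _).symm.trans (Over.w (toUnit N))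
  rw [hNh] at hsq
  refine ⟨hcomm, h3, h4, inferInstance, N, hN, hNc, k, hk, hmono, hpb, ?_, ?_⟩
  · exact MorphismProperty.of_isPullback (P := @IsFinite) hsq h1
  · exact MorphismProperty.of_isPullback (P := @Etale) hsq h2

variable {B : Type u} [CommRing B] [IsDomain B] {F : Type u} [Field F] [Algebra B F] [IsFractionRing B F]

open WMPts in
/-- Every `m`-torsion geometric point of `X` is rational over `F`. -/
def Split (B F Ω : Type u) [CommRing B] [Field F] [Field Ω] [Algebra B F] [Algebra B Ω] [Algebra F Ω] (m : ℕ)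
    (X : Over (Spec (CommRingCat.of B))) [GrpObj X] : Prop :=
  ∀ z : Over.mk (gen B Ω) ⟶ X, z ^ m = 1 →
    ∃ x : Spec (CommRingCat.of F) ⟶ X.left, x ≫ X.hom = gen B F ∧ z.left = gen F Ω ≫ x

theorem toUnit_comp_left {S : Scheme.{u}} {T X : Over S} (s : 𝟙_ (Over S) ⟶ X) :
    (toUnit T ≫ s).left = T.hom ≫ s.left := by
  rw [Over.comp_left]
  congr 1

open WMPts in
/-- `X(B) / m` is finite. -/
theorem finiteIndex [IsRegularRing B] [UniqueFactorizationMonoid B] (hB : Group.FG Bˣ)
    (X : Over (Spec (CommRingCat.of B))) [GrpObj X] [IsProper X.hom] [Smooth X.hom]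
    [GeometricallyConnected X.hom] [IsCommMonObj X] (m : ℕ) [NeZero m] (hm : IsUnit (m : B)) (Ω : Type u) [Field Ω] [IsAlgClosed Ω]
    [Algebra B Ω] [Algebra F Ω] [IsScalarTower B F Ω] (hs : Split B F Ω m X)
    (ζ : B) (hζ : ζ ^ m = 1) (hu : ∀ k : ℕ, ¬ m ∣ k → IsUnit (ζ ^ k - 1)) :
    (powMonoidHom (α := (𝟙_ (Over (Spec (CommRingCat.of B))) ⟶ X)) m).range.FiniteIndex := by
  let r : B →+* Γ(Spec (CommRingCat.of B), ⊤) := (Scheme.ΓSpecIso (CommRingCat.of B)).inv.hom
  have hm' : IsUnit ((m : ℕ) : Γ(Spec (CommRingCat.of B), ⊤)) := by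
    have := hm.map r
    rwa [map_natCast] at this
  obtain ⟨-, h1, h2, h3, N, hN, hNc, k, hk, hmono, hker, hfin, het⟩ := exists_torsion X m hm' (NeZero.ne m)
  have hinj : Function.Injective (algebraMap B Ω) := by
    rw [IsScalarTower.algebraMap_eq B F Ω]
    exact (algebraMap F Ω).injective.comp (IsFractionRing.injective B F)
  have hgen : gen F Ω ≫ gen B F = gen B Ω := by
    rw [← Spec.map_comp, ← CommRingCat.ofHom_comp, ← IsScalarTower.algebraMap_eq B F Ω]
  have hconn : ConnectedSpace (Spec (CommRingCat.of B)) := inferInstance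
  have hLN : IsLocallyNoetherian (Spec (CommRingCat.of B)) := inferInstance
  have hcon := WMConst.exists_const N Ω (gen B Ω) (fun s s' h => section_ext' hinj N s s' h) (fun z hz => by
    let z' : Over.mk (gen B Ω) ⟶ N := Over.homMk z hz
    have hz1 : (z' ≫ k) ^ m = 1 := by
      have h4 : (z' ≫ k) ≫ ((𝟙 X : X ⟶ X) ^ m) = 1 := Sga3.H739.KerPts.comp_eq_one hker z'
      rwa [MonObj.comp_pow, Category.comp_id] at h4
    obtain ⟨x, hx, hzx⟩ := hs (z' ≫ k) hz1
    obtain ⟨t, ht⟩ := exists_section X x hx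
    have h5 : toUnit (Over.mk (gen B Ω)) ≫ t = z' ≫ k := by
      apply Over.OverMorphism.ext
      rw [toUnit_comp_left, hzx, ← ht, ← Category.assoc, hgen]
      rfl
    have h6 : t ^ m = 1 := by
      apply section_ext' hinj X
      have h7 : toUnit (Over.mk (gen B Ω)) ≫ t ^ m = toUnit (Over.mk (gen B Ω)) ≫ (1 : 𝟙_ _ ⟶ X) := by
        rw [MonObj.comp_pow, h5, hz1, MonObj.comp_one]
      have h8 := congrArg Over.Hom.left h7
      rw [toUnit_comp_left, toUnit_comp_left] at h8
      exact h8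
    obtain ⟨s, hs'⟩ := Sga3.H739.KerPts.exists_lift hker t (by rw [MonObj.comp_pow, Category.comp_id, h6])
    refine ⟨s, ?_⟩
    have h9 : toUnit (Over.mk (gen B Ω)) ≫ s = z' := by
      rw [← cancel_mono k, Category.assoc, hs', h5]
    have h10 := congrArg Over.Hom.left h9
    rw [toUnit_comp_left] at h10
    exact h10)
  obtain ⟨e, he⟩ := hcon
  have hfinC : Finite (𝟙_ (Over (Spec (CommRingCat.of B))) ⟶ N) := finite_of_const e
  have hpow : ∀ x : (𝟙_ (Over (Spec (CommRingCat.of B))) ⟶ N), x ^ m = 1 := by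
    intro x
    rw [← cancel_mono k, MonObj.one_comp, MonObj.pow_comp]
    have h4 : (x ≫ k) ≫ ((𝟙 X : X ⟶ X) ^ m) = 1 := Sga3.H739.KerPts.comp_eq_one hker x
    rwa [MonObj.comp_pow, Category.comp_id] at h4
  obtain ⟨e'⟩ := K85.ConstMT.nonempty_iso₀ e he m hpow hm' (r ζ) (by rw [← map_pow, hζ, map_one])
    (fun j hj => by
      have := (hu j hj).map r
      rwa [map_sub, map_pow, map_one] at this)
  have hF : AddGroup.FG (BigSite.H Scheme.fppfPrecoverage (Spec (CommRingCat.of B))
      (CGrpSh.pts Scheme.fppfPrecoverage N) 1) := by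
    refine fg_of_iso e' ?_
    have h11 : Finite (K85.ConstMT.Lam (𝟙_ (Over (Spec (CommRingCat.of B))) ⟶ N) m) :=
      inferInstanceAs (Finite (K85.ConstMT.DC _ _))
    exact WMUfd.fg_H1_DS_of_ufd B hB (K85.ConstMT.Lam (𝟙_ (Over (Spec (CommRingCat.of B))) ⟶ N) m) inferInstance
  exact WMKum.finiteIndex_pow m (NeZero.pos m) k hker hF

end K248.WMFin
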