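import Groth.Agent.CGrpSh.K731.Basic
import Groth.Agent.TateGlob.K828.Kit
import Groth.Agent.TateGlob.K827.Deg0
import Mathlib.GroupTheory.Index
import Mathlib.GroupTheory.FiniteAbelian.Basic

/-!
# The Kummer map of a faithfully flat homomorphism of commutative group schemes

* `exists_kum`: for `1 → F → G → H` with `G → H` faithfully flat of finite presentation, the boundary map
  `d : H(S) → H¹_fppf(S, F)`, with kernel the image of `G(S)`; surjective if `H¹_fppf(S, G) = 0`.
* `finiteIndex_pow`: if `N` is the kernel of `[m]` on `G`, `[m]` faithfully flat of finite presentation, and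
  `H¹_fppf(S, N)` is finitely generated, then `G(S) / m` is finite.
-/

set_option autoImplicit false
universe u
open CategoryTheory CategoryTheory.Limits MonoidalCategory CartesianMonoidalCategory MonObj GrpObj AlgebraicGeometry
open Opposite

namespace K248.WMKum

variable {S : Scheme.{u}} {F G H : Over S} [GrpObj F] [IsCommMonObj F] [GrpObj G] [IsCommMonObj G] [GrpObj H]
  [IsCommMonObj H]

/-- Sections over the base. -/
noncomputable def sec (G : Over S) [GrpObj G] [IsCommMonObj G] :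
    Additive (𝟙_ (Over S) ⟶ G) ≃+
      BigSite.H Scheme.fppfPrecoverage S (CGrpSh.pts Scheme.fppfPrecoverage G) 0 :=
  ((CGrpSh.sectEquiv Scheme.fppfPrecoverage G (Over.mk (𝟙 S))).symm).trans
    (K827.Deg0.h0 Scheme.fppfPrecoverage (CGrpSh.pts Scheme.fppfPrecoverage G)).symm

theorem map_sec (p : G ⟶ H) [IsMonHom p] (x : 𝟙_ (Over S) ⟶ G) :
    Sheaf.H.map (CGrpSh.ptsMap Scheme.fppfPrecoverage p) 0 (sec G (Additive.ofMul x)) =
      sec H (Additive.ofMul (x ≫ p)) := by
  apply (K827.Deg0.h0 Scheme.fppfPrecoverage (CGrpSh.pts Scheme.fppfPrecoverage H)).injective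
  rw [K827.Deg0.h0_map]
  change _ = K827.Deg0.h0 Scheme.fppfPrecoverage (CGrpSh.pts Scheme.fppfPrecoverage H)
    ((K827.Deg0.h0 Scheme.fppfPrecoverage (CGrpSh.pts Scheme.fppfPrecoverage H)).symm _)
  rw [AddEquiv.apply_symm_apply]
  change (CGrpSh.ptsMap Scheme.fppfPrecoverage p).hom.app (op (Over.mk (𝟙 S)))
    (K827.Deg0.h0 Scheme.fppfPrecoverage (CGrpSh.pts Scheme.fppfPrecoverage G)
    ((K827.Deg0.h0 Scheme.fppfPrecoverage (CGrpSh.pts Scheme.fppfPrecoverage G)).symm _)) = _
  rw [AddEquiv.apply_symm_apply]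
  rfl

omit [GrpObj F] [IsCommMonObj F] [GrpObj G] [IsCommMonObj G] in
theorem isKernel_w {f : F ⟶ G} {p : G ⟶ H} (hker : AlgGrp.IsKernel f p) : f ≫ p = 1 := by
  rw [hker.w, Hom.one_def]

/-- A faithfully flat homomorphism, locally of finite presentation, of commutative group schemes is an epimorphism of
fppf sheaves; with its kernel it gives a short exact sequence. -/
theorem shortExact_of_isKernel (f : F ⟶ G) (p : G ⟶ H) [IsMonHom f] [IsMonHom p] [Flat p.left] [Surjective p.left]
    [LocallyOfFinitePresentation p.left] (hker : AlgGrp.IsKernel f p) (w : f ≫ p = 1) :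
    (CGrpSh.seq Scheme.fppfPrecoverage f p w).ShortExact := by
  refine ShortComplex.ShortExact.mk' ?_ ?_ ?_
  · apply K731.Basic.exact_of_sections
    intro T x hx
    have hx' : x.down.toMul ≫ p = 1 := congrArg (fun z => z.down.toMul) hx
    have h2 : x.down.toMul ≫ p = toUnit T ≫ η[H] := by
      rw [hx', Hom.one_def]
    refine ⟨ULift.up (Additive.ofMul (hker.lift _ _ h2)), ?_⟩
    apply ULift.ext
    change Additive.ofMul (hker.lift _ _ h2 ≫ f) = _
    rw [hker.lift_fst]
    rfl
  · apply K731.Basic.mono_of_injective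
    intro T x y hxy
    have h1 : x.down.toMul ≫ f = y.down.toMul ≫ f := congrArg (fun z => z.down.toMul) hxy
    have h2 : x.down.toMul = y.down.toMul := hker.hom_ext h1 (toUnit_unique _ _)
    exact ULift.ext _ _ h2
  · apply K731.Basic.epi_of_exists_cover
    intro T b
    let t : T ⟶ H := b.down.toMul
    refine ⟨Presieve.singleton (pullback.fst t.left p.left), Scheme.Hom.singleton_mem_fppfPrecoverage _, ?_⟩
    rintro Y _ ⟨⟩
    let s : Over.mk (pullback.fst t.left p.left ≫ T.hom) ⟶ G := Over.homMk (pullback.snd t.left p.left) (by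
      have h1 := Over.w p
      have h2 := Over.w t
      rw [← h1, ← pullback.condition_assoc, h2]
      rfl)
    refine ⟨ULift.up (Additive.ofMul s), ?_⟩
    apply ULift.ext
    change Additive.ofMul (s ≫ p) = Additive.ofMul ((Over.homMk (pullback.fst t.left p.left) :
      Over.mk (pullback.fst t.left p.left ≫ T.hom) ⟶ T) ≫ t)
    congr 1
    ext1
    exact pullback.condition.symm

theorem fg_of_exact {A B C : Type*} [AddCommGroup A] [AddCommGroup B] [AddCommGroup C] (f : A →+ B) (g : B →+ C)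
    (hfg : ∀ b, g b = 0 → ∃ a, f a = b) (hA : AddGroup.FG A) (hC : AddGroup.FG C) : AddGroup.FG B := by
  have h1 : Module.Finite ℤ A := Module.Finite.iff_addGroup_fg.2 hA
  have h2 : Module.Finite ℤ C := Module.Finite.iff_addGroup_fg.2 hC
  apply Module.Finite.iff_addGroup_fg.1
  refine ⟨Submodule.fg_of_fg_map_of_fg_inf_ker g.toIntLinearMap (IsNoetherian.noetherian _) ?_⟩
  rw [top_inf_eq]
  have h3 : (LinearMap.range f.toIntLinearMap).FG := by
    rw [← Submodule.map_top]
    exact h1.fg_top.map _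
  have h4 : LinearMap.ker g.toIntLinearMap ≤ LinearMap.range f.toIntLinearMap := by
    intro b hb
    exact hfg b hb
  have h5 : Module.Finite ℤ (LinearMap.range f.toIntLinearMap) := Module.Finite.iff_fg.2 h3
  have h6 := IsNoetherian.noetherian ((LinearMap.ker g.toIntLinearMap).comap
    (LinearMap.range f.toIntLinearMap).subtype)
  have h7 := h6.map (LinearMap.range f.toIntLinearMap).subtype
  rwa [Submodule.map_comap_subtype, inf_eq_right.2 h4] at h7

/-- The boundary map `H(S) → H¹_fppf(S, F)`. -/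
theorem exists_kum (f : F ⟶ G) (p : G ⟶ H) [IsMonHom f] [IsMonHom p] [Flat p.left] [Surjective p.left]
    [LocallyOfFinitePresentation p.left] (hker : AlgGrp.IsKernel f p) :
    ∃ d : Additive (𝟙_ (Over S) ⟶ H) →+
        BigSite.H Scheme.fppfPrecoverage S (CGrpSh.pts Scheme.fppfPrecoverage F) 1,
      (∀ x : 𝟙_ (Over S) ⟶ H, d (Additive.ofMul x) = 0 ↔ ∃ y : 𝟙_ (Over S) ⟶ G, y ≫ p = x) ∧
      (Subsingleton (BigSite.H Scheme.fppfPrecoverage S (CGrpSh.pts Scheme.fppfPrecoverage G) 1) →
        Function.Surjective d) := by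
  have w := isKernel_w hker
  have hS := shortExact_of_isKernel f p hker w
  refine ⟨(K828.Kit.del hS 0).comp (sec H).toAddMonoidHom, ?_, ?_⟩
  · intro x
    constructor
    · intro h
      obtain ⟨y, hy⟩ := K828.Kit.exact₃ hS 0 (sec H (Additive.ofMul x)) h
      obtain ⟨y', rfl⟩ := (sec G).surjective y
      refine ⟨y'.toMul, ?_⟩
      have h1 := map_sec p y'.toMul
      have h2 : sec H (Additive.ofMul (y'.toMul ≫ p)) = sec H (Additive.ofMul x) := by
        rw [← h1]
        exact hy
      exact Additive.ofMul.injective ((sec H).injective h2)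
    · rintro ⟨y, rfl⟩
      change K828.Kit.del hS 0 (sec H (Additive.ofMul (y ≫ p))) = 0
      rw [← map_sec p y]
      exact K828.Kit.del_map hS 0 _
  · intro hG x
    obtain ⟨y, hy⟩ := K828.Kit.exact₁ hS 0 x (Subsingleton.elim (α := BigSite.H Scheme.fppfPrecoverage S
      (CGrpSh.pts Scheme.fppfPrecoverage G) 1) _ _)
    obtain ⟨y', rfl⟩ := (sec H).surjective y
    exact ⟨y', hy⟩

theorem fg_left (f : F ⟶ G) (p : G ⟶ H) [IsMonHom f] [IsMonHom p] [Flat p.left] [Surjective p.left]
    [LocallyOfFinitePresentation p.left] (hker : AlgGrp.IsKernel f p)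
    (h0 : Group.FG (𝟙_ (Over S) ⟶ H))
    (h1 : AddGroup.FG (BigSite.H Scheme.fppfPrecoverage S (CGrpSh.pts Scheme.fppfPrecoverage G) 1)) :
    AddGroup.FG (BigSite.H Scheme.fppfPrecoverage S (CGrpSh.pts Scheme.fppfPrecoverage F) 1) := by
  have w := isKernel_w hker
  have hS := shortExact_of_isKernel f p hker w
  refine fg_of_exact ((K828.Kit.del hS 0).comp (sec H).toAddMonoidHom)
    (Sheaf.H.map (CGrpSh.seq Scheme.fppfPrecoverage f p w).f 1) ?_ (GroupFG.iff_add_fg.1 h0) h1
  intro b hb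
  obtain ⟨y, hy⟩ := K828.Kit.exact₁ hS 0 b hb
  obtain ⟨y', rfl⟩ := (sec H).surjective y
  exact ⟨y', hy⟩

theorem fg_mid (f : F ⟶ G) (p : G ⟶ H) [IsMonHom f] [IsMonHom p] [Flat p.left] [Surjective p.left]
    [LocallyOfFinitePresentation p.left] (hker : AlgGrp.IsKernel f p)
    (h0 : AddGroup.FG (BigSite.H Scheme.fppfPrecoverage S (CGrpSh.pts Scheme.fppfPrecoverage F) 1))
    (h1 : AddGroup.FG (BigSite.H Scheme.fppfPrecoverage S (CGrpSh.pts Scheme.fppfPrecoverage H) 1)) :
    AddGroup.FG (BigSite.H Scheme.fppfPrecoverage S (CGrpSh.pts Scheme.fppfPrecoverage G) 1) := by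
  have w := isKernel_w hker
  have hS := shortExact_of_isKernel f p hker w
  exact fg_of_exact (Sheaf.H.map (CGrpSh.seq Scheme.fppfPrecoverage f p w).f 1)
    (Sheaf.H.map (CGrpSh.seq Scheme.fppfPrecoverage f p w).g 1) (fun b hb => K828.Kit.exact₂ hS 1 b hb) h0 h1

theorem finite_range {A B : Type*} [AddCommGroup A] [AddCommGroup B] (d : A →+ B) [hB : AddGroup.FG B] (m : ℕ)
    (hm : 0 < m) (h : ∀ x, d (m • x) = 0) : Finite d.range := by
  have h1 : Module.Finite ℤ B := Module.Finite.iff_addGroup_fg.2 hB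
  have h2 : Module.Finite ℤ (AddSubgroup.toIntSubmodule d.range) := inferInstance
  have h3 : Module.IsTorsion ℤ (AddSubgroup.toIntSubmodule d.range) := by
    rintro ⟨_, x, rfl⟩
    refine ⟨⟨(m : ℤ), mem_nonZeroDivisors_of_ne_zero (by exact_mod_cast hm.ne')⟩, Subtype.ext ?_⟩
    change (m : ℤ) • d x = 0
    rw [← map_zsmul, natCast_zsmul, h]
  have : Finite (AddSubgroup.toIntSubmodule d.range) := Module.finite_of_fg_torsion _ h3
  exact this

theorem isMonHom_pow (m : ℕ) : IsMonHom ((𝟙 G : G ⟶ G) ^ m) where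
  one_hom := by rw [MonObj.comp_pow, Category.comp_id, MonObj.one_eq_one, _root_.one_pow]
  mul_hom := by
    rw [MonObj.comp_pow, Category.comp_id, MonObj.mul_eq_mul, MonObj.comp_mul,
      tensorHom_fst, tensorHom_snd, MonObj.comp_pow, MonObj.comp_pow, Category.comp_id,
      Category.comp_id, _root_.mul_pow]

/-- If the first fppf cohomology of the kernel of `[m]` is finitely generated, then `G(S) / m` is finite. -/
theorem finiteIndex_pow (m : ℕ) (hm : 0 < m) (f : F ⟶ G) [IsMonHom f] [Flat ((𝟙 G : G ⟶ G) ^ m).left]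
    [Surjective ((𝟙 G : G ⟶ G) ^ m).left] [LocallyOfFinitePresentation ((𝟙 G : G ⟶ G) ^ m).left]
    (hker : AlgGrp.IsKernel f ((𝟙 G : G ⟶ G) ^ m))
    (hF : AddGroup.FG (BigSite.H Scheme.fppfPrecoverage S (CGrpSh.pts Scheme.fppfPrecoverage F) 1)) :
    (powMonoidHom (α := (𝟙_ (Over S) ⟶ G)) m).range.FiniteIndex := by
  have hp : IsMonHom ((𝟙 G : G ⟶ G) ^ m) := isMonHom_pow m
  have hpow : ∀ y : 𝟙_ (Over S) ⟶ G, y ≫ ((𝟙 G : G ⟶ G) ^ m) = y ^ m := by
    intro y
    rw [comp_pow, Category.comp_id]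
  obtain ⟨d, hd, -⟩ := exists_kum f ((𝟙 G : G ⟶ G) ^ m) hker
  have h1 : Finite d.range := finite_range d m hm fun x => by
    rw [← ofMul_toMul x, ← ofMul_pow, hd]
    exact ⟨x.toMul, hpow _⟩
  let d' : (𝟙_ (Over S) ⟶ G) →* Multiplicative (BigSite.H Scheme.fppfPrecoverage S
    (CGrpSh.pts Scheme.fppfPrecoverage F) 1) := AddMonoidHom.toMultiplicativeRight d
  have h2 : Finite d'.range := h1
  have h3 : (powMonoidHom (α := (𝟙_ (Over S) ⟶ G)) m).range = d'.ker := by
    ext x
    rw [MonoidHom.mem_ker]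
    change (∃ y, powMonoidHom m y = x) ↔ d (Additive.ofMul x) = 0
    rw [hd]
    simp only [powMonoidHom_apply, hpow]
  rw [h3]
  exact Subgroup.finiteIndex_ker d'

end K248.WMKum
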