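import Groth.Agent.CalgB.RegHom1
import Groth.Agent.MultTori.K605.Defs
import Groth.Agent.MultTori.K792.Units
import Groth.Agent.MultTori.K85.ConstMT
import Mathlib.RingTheory.Localization.Integer
import Mathlib.GroupTheory.MonoidLocalization.UniqueFactorization
import Mathlib.RingTheory.Polynomial.RationalRoot
import Mathlib.RingTheory.Polynomial.Cyclotomic.Roots

/-!
# Factorial models of a field containing a given finitely generated subring
-/

set_option autoImplicit false
universe u

namespace K248.WMRing

open Groth.Agent.MultTori.K605.Defs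

/-- A finite separable extension of a finitely generated field. -/
theorem isFG_ext (n : ℕ) (L F : Type u) [Field L] [Field F] [Algebra L F] [FiniteDimensional L F]
    [Algebra.IsSeparable L F] (hL : IsFG n L) : IsFG n F := by
  obtain ⟨D, _, _, _, hD, hfin, hsep⟩ := hL
  let _ : Algebra (FractionRing (MvPolynomial (Fin n) D)) F :=
    ((algebraMap L F).comp (algebraMap (FractionRing (MvPolynomial (Fin n) D)) L)).toAlgebra
  have : IsScalarTower (FractionRing (MvPolynomial (Fin n) D)) L F := IsScalarTower.of_algebraMap_eq fun x => rfl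
  exact ⟨D, inferInstance, inferInstance, inferInstance, hD, Module.Finite.trans L F,
    Algebra.IsSeparable.trans (FractionRing (MvPolynomial (Fin n) D)) L F⟩

theorem finiteType_away {A B : Type*} [CommRing A] [CommRing B] [Algebra A B] (g : A) [IsLocalization.Away g B]
    [hA : Algebra.FiniteType ℤ A] : Algebra.FiniteType ℤ B := by
  have h1 : Algebra.FiniteType A B := IsLocalization.finiteType_of_monoid_fg (Submonoid.powers g) B
  exact Algebra.FiniteType.trans hA h1

theorem exists_model_aux {A B F : Type u} [CommRing A] [IsDomain A] [CommRing B] [IsDomain B] [Field F] [Algebra A F]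
    [Algebra A B] [Algebra B F] [IsScalarTower A B F] [IsFractionRing A F] (s : Finset F)
    (b : A) (hb : ∀ a ∈ s, IsLocalization.IsInteger A (b • a)) (hbB : IsUnit (algebraMap A B b)) :
    ∀ x ∈ Algebra.adjoin ℤ (s : Set F), x ∈ (algebraMap B F).range := by
  intro x hx
  induction hx using Algebra.adjoin_induction with
  | mem x hx =>
    obtain ⟨a, ha⟩ := hb x hx
    obtain ⟨c, hc⟩ := hbB.exists_left_inv
    refine ⟨c * algebraMap A B a, ?_⟩
    rw [map_mul, ← IsScalarTower.algebraMap_apply A B F, ha, Algebra.smul_def,
      IsScalarTower.algebraMap_apply A B F, ← mul_assoc, ← map_mul, hc, map_one, one_mul]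
  | algebraMap r => exact ⟨(r : B), by rw [map_intCast]; rfl⟩
  | add x y _ _ hx hy => exact add_mem hx hy
  | mul x y _ _ hx hy => exact mul_mem hx hy

/-- A factorial model of `F` containing `R₀`, in which `m` is invertible. -/
theorem exists_model (F : Type u) [Field F] (hF : HasUFD F) (R₀ : Subalgebra ℤ F) (hR₀ : R₀.FG) (m : ℕ)
    (hm : (m : F) ≠ 0) :
    ∃ (B : Type u) (_ : CommRing B) (_ : IsDomain B) (_ : Algebra B F), IsFractionRing B F ∧ IsRegularRing B ∧
      UniqueFactorizationMonoid B ∧ Group.FG Bˣ ∧ IsUnit (m : B) ∧ ∀ x ∈ R₀, x ∈ (algebraMap B F).range := by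
  obtain ⟨A, _, _, _, hA1, hA2, hA3, hA4⟩ := hF
  obtain ⟨s, hs⟩ := hR₀
  obtain ⟨b, hb⟩ := IsLocalization.exist_integer_multiples_of_finset (nonZeroDivisors A) s
  have hb0 : (b : A) ≠ 0 := nonZeroDivisors.ne_zero b.2
  have hmA : (m : A) ≠ 0 := by
    intro h
    apply hm
    rw [← map_natCast (algebraMap A F), h, map_zero]
  let g : A := b * m
  have hg : g ≠ 0 := mul_ne_zero hb0 hmA
  have hinj : Function.Injective (algebraMap A F) := IsFractionRing.injective A F
  have hgF : IsUnit (algebraMap A F g) := by
    rw [isUnit_iff_ne_zero, Ne, map_eq_zero_iff _ hinj]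
    exact hg
  have hle : Submonoid.powers g ≤ nonZeroDivisors A := powers_le_nonZeroDivisors_of_noZeroDivisors hg
  have hdom : IsDomain (Localization.Away g) := IsLocalization.isDomain_localization hle
  let _ : Algebra (Localization.Away g) F := (IsLocalization.Away.lift (S := Localization.Away g) g hgF).toAlgebra
  have hT : IsScalarTower A (Localization.Away g) F := IsScalarTower.of_algebraMap_eq fun x =>
    (IsLocalization.Away.lift_eq (S := Localization.Away g) g hgF x).symm
  have hB1 : IsFractionRing (Localization.Away g) F :=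
    IsFractionRing.isFractionRing_of_isDomain_of_isLocalization (Submonoid.powers g) (Localization.Away g) F
  have hB2 : IsRegularRing (Localization.Away g) :=
    Groth.Agent.CalgB.RegHom1.isRegularRing_of_isLocalization (Submonoid.powers g) (Localization.Away g)
  have hB3 : UniqueFactorizationMonoid (Localization.Away g) :=
    UniqueFactorizationMonoid.of_isLocalization (Submonoid.powers g) (Localization.Away g)
  have hB4 := finiteType_away (B := Localization.Away g) g
  have hgB : IsUnit (algebraMap A (Localization.Away g) g) := IsLocalization.Away.algebraMap_isUnit g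
  rw [map_mul] at hgB
  have hbB : IsUnit (algebraMap A (Localization.Away g) b) := isUnit_of_mul_isUnit_left hgB
  have hmB : IsUnit (m : Localization.Away g) := by
    have := isUnit_of_mul_isUnit_right hgB
    rwa [map_natCast] at this
  refine ⟨Localization.Away g, inferInstance, inferInstance, inferInstance, hB1, hB2, hB3,
    @K792.Units.unitsFG (Localization.Away g) _ _ hB4, hmB, ?_⟩
  rw [← hs]
  exact exists_model_aux (A := A) (B := Localization.Away g) s b (fun a ha => hb a ha) hbB

/-- Roots of unity lie in an integrally closed model. -/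
theorem exists_root {B F : Type u} [CommRing B] [IsDomain B] [IsIntegrallyClosed B] [Field F] [Algebra B F]
    [IsFractionRing B F] (m : ℕ) [NeZero m] (hm : IsUnit (m : B)) (ζ : F) (hζ : IsPrimitiveRoot ζ m) :
    ∃ ξ : B, ξ ^ m = 1 ∧ ∀ k : ℕ, ¬ m ∣ k → IsUnit (ξ ^ k - 1) := by
  have hinj : Function.Injective (algebraMap B F) := IsFractionRing.injective B F
  obtain ⟨ξ, rfl⟩ := IsIntegrallyClosed.isIntegral_iff.1 (hζ.isIntegral (NeZero.pos m) |>.tower_top (A := B))
  have hξ : IsPrimitiveRoot ξ m := IsPrimitiveRoot.of_map_of_injective hζ hinj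
  refine ⟨ξ, hξ.pow_eq_one, fun k hk => K85.ConstMT.isUnit_pow_sub_one m hm ξ (fun K _ φ => ?_) k hk⟩
  have h1 : NeZero (m : K) := ⟨by
    have := (hm.map φ).ne_zero
    rwa [map_natCast] at this⟩
  have h2 : (Polynomial.cyclotomic m B).IsRoot ξ := hξ.isRoot_cyclotomic (NeZero.pos m)
  rw [← Polynomial.isRoot_cyclotomic_iff, ← Polynomial.map_cyclotomic m φ]
  exact h2.map

end K248.WMRing
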