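import Mathlib.RingTheory.Unramified.Field
import Mathlib.FieldTheory.SeparableClosure
import Mathlib.FieldTheory.IsAlgClosed.AlgebraicClosure
import Mathlib.RingTheory.RootsOfUnity.AlgebraicallyClosed
import Mathlib.RingTheory.Artinian.Module
import Mathlib.FieldTheory.IntermediateField.Adjoin.Basic

/-!
# Splitting finite étale algebras over a field
-/

set_option autoImplicit false
universe u

namespace K248.WMSplit

open TensorProduct

section

variable (L : Type u) [Field L] (E : Type u) [CommRing E] [Algebra L E] [Module.Finite L E]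

theorem isSeparable_of_unramified [Algebra.FormallyUnramified L E] {Ω : Type u} [Field Ω] [Algebra L Ω]
    (φ : E →ₐ[L] Ω) (e : E) : IsSeparable L (φ e) := by
  have h1 : Module.Finite L φ.range := Module.Finite.of_surjective φ.rangeRestrict.toLinearMap φ.rangeRestrict_surjective
  have h2 : IsField φ.range := Algebra.IsIntegral.isField_iff_isField
    (R := L) (S := φ.range) (algebraMap L φ.range).injective |>.1 (Field.toIsField L)
  let _ : Field φ.range := h2.toField
  have h3 : Algebra.FormallyUnramified L φ.range :=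
    Algebra.FormallyUnramified.of_surjective φ.rangeRestrict φ.rangeRestrict_surjective
  have h4 : Algebra.IsSeparable L φ.range := (Algebra.FormallyUnramified.iff_isSeparable L φ.range).1 h3
  have h5 : IsSeparable L (⟨φ e, e, rfl⟩ : φ.range) := Algebra.IsSeparable.isSeparable L _
  have h6 : minpoly L (φ.range.val ⟨φ e, e, rfl⟩) = minpoly L (⟨φ e, e, rfl⟩ : φ.range) :=
    minpoly.algHom_eq φ.range.val Subtype.coe_injective _
  unfold IsSeparable at h5 ⊢
  rw [← h6] at h5
  exact h5

/-- All points of a finite étale algebra and the `m`-th roots of unity are defined over a finite separable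
extension. -/
theorem exists_field [Algebra.FormallyUnramified L E] (m : ℕ) (hm : (m : L) ≠ 0) :
    ∃ F : IntermediateField L (AlgebraicClosure L), FiniteDimensional L F ∧ Algebra.IsSeparable L F ∧
      (∀ (φ : E →ₐ[L] AlgebraicClosure L) (e : E), φ e ∈ F) ∧ ∃ ζ ∈ F, IsPrimitiveRoot ζ m := by
  obtain ⟨s, hs⟩ := (inferInstance : Module.Finite L E).fg_top
  have hm0 : NeZero (m : AlgebraicClosure L) := ⟨by
    rw [← map_natCast (algebraMap L (AlgebraicClosure L)), Ne, map_eq_zero]
    exact hm⟩
  obtain ⟨ζ, hζ⟩ := HasEnoughRootsOfUnity.exists_primitiveRoot (AlgebraicClosure L) m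
  let S : Set (AlgebraicClosure L) := (⋃ φ : E →ₐ[L] AlgebraicClosure L, φ '' s) ∪ {ζ}
  have hSf : S.Finite := (Set.finite_iUnion fun φ : E →ₐ[L] AlgebraicClosure L => s.finite_toSet.image φ).union
    (Set.finite_singleton ζ)
  have : Finite S := hSf
  have hsep : ∀ x ∈ S, IsSeparable L x := by
    rintro x (hx | hx)
    · obtain ⟨φ, hφ⟩ := Set.mem_iUnion.1 hx
      obtain ⟨e, -, rfl⟩ := hφ
      exact isSeparable_of_unramified L E φ e
    · rw [Set.mem_singleton_iff.1 hx]
      refine Polynomial.Separable.of_dvd (Polynomial.X_pow_sub_one_separable_iff.2 hm) (minpoly.dvd L ζ ?_)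
      rw [map_sub, map_pow, Polynomial.aeval_X, map_one, hζ.pow_eq_one, sub_self]
  refine ⟨IntermediateField.adjoin L S, ?_, ?_, ?_, ζ, ?_, hζ⟩
  · exact IntermediateField.finiteDimensional_adjoin fun x hx => (hsep x hx).isIntegral
  · exact (IntermediateField.isSeparable_adjoin_iff_isSeparable _ _).2 hsep
  · intro φ e
    have h1 : e ∈ Submodule.span L (s : Set E) := by rw [hs]; trivial
    induction h1 using Submodule.span_induction with
    | mem x hx => exact IntermediateField.subset_adjoin L S (Or.inl (Set.mem_iUnion.2 ⟨φ, x, hx, rfl⟩))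
    | zero => rw [map_zero]; exact zero_mem _
    | add x y _ _ hx hy => rw [map_add]; exact add_mem hx hy
    | smul a x _ hx => rw [map_smul]; exact IntermediateField.smul_mem _ hx
  · exact IntermediateField.subset_adjoin L S (Or.inr rfl)

/-- The points of a finite algebra over a field with values in a finite reduced algebra are finite in number. -/
theorem finite_algHom (R : Type u) [CommRing R] [Algebra L R] [IsArtinianRing R] [IsReduced R] :
    Finite (E →ₐ[L] R) := by
  have h1 : Finite (MaximalSpectrum R) := inferInstance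
  have h2 : ∀ p : MaximalSpectrum R, Finite (E →ₐ[L] R ⧸ p.asIdeal) := fun p => by
    have := p.isMaximal
    let _ := Ideal.Quotient.field p.asIdeal
    infer_instance
  let Φ : (E →ₐ[L] R) → ∀ p : MaximalSpectrum R, (E →ₐ[L] R ⧸ p.asIdeal) := fun f p =>
    (Ideal.Quotient.mkₐ L p.asIdeal).comp f
  refine Finite.of_injective Φ fun f g hfg => ?_
  apply AlgHom.ext
  intro e
  rw [← sub_eq_zero]
  have h3 : f e - g e ∈ nilradical R := by
    rw [nilradical_eq_sInf, Ideal.mem_sInf]
    intro p hp
    have hp' : p.IsPrime := hp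
    have h4 : p.IsMaximal := IsArtinianRing.isMaximal_of_isPrime p
    have h5 := congrArg (fun Ψ : ∀ p : MaximalSpectrum R, (E →ₐ[L] R ⧸ p.asIdeal) => Ψ ⟨p, h4⟩ e) hfg
    exact Ideal.Quotient.eq.1 h5
  rw [nilradical_eq_zero] at h3
  exact h3

end

end K248.WMSplit
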