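import Groth.Agent.MultTori.K248.WMSplit
import Groth.Agent.MultTori.K248.WMDesc
import Groth.Agent.MultTori.K248.WMFin

/-!
# The torsion of an abelian variety: field of definition and finiteness
-/

set_option autoImplicit false
universe u
open CategoryTheory MonoidalCategory CartesianMonoidalCategory MonObj GrpObj AlgebraicGeometry Limits Opposite

namespace K248.WMTors

open Groth.Agent WMPts

/-- A finite étale scheme over a field is the spectrum of a finite unramified algebra. -/
theorem exists_alg (L : Type u) [Field L] (N : Over (Spec (CommRingCat.of L))) [IsFinite N.hom] [Etale N.hom] :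
    ∃ (E : Type u) (_ : CommRing E) (_ : Algebra L E) (a : N.left ≅ Spec (CommRingCat.of E)), Module.Finite L E ∧
      Algebra.FormallyUnramified L E ∧ a.hom ≫ Spec.map (CommRingCat.ofHom (algebraMap L E)) = N.hom := by
  have haff : IsAffine N.left := isAffine_of_isAffineHom N.hom
  let E : CommRingCat.{u} := Γ(N.left, ⊤)
  let a : N.left ≅ Spec E := N.left.isoSpec
  let j : CommRingCat.of L ⟶ E := Spec.preimage (a.inv ≫ N.hom)
  have hj : Spec.map j = a.inv ≫ N.hom := Spec.map_preimage _
  let _ : Algebra L E := j.hom.toAlgebra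
  have h1 : IsFinite (Spec.map j) := by rw [hj]; infer_instance
  have h2 : FormallyUnramified (Spec.map j) := by rw [hj]; infer_instance
  have h3 : Module.Finite L E := (IsFinite.SpecMap_iff _).1 h1
  have h4 : Algebra.FormallyUnramified L E :=
    (HasRingHomProperty.Spec_iff (P := @FormallyUnramified)).1 h2
  refine ⟨E, inferInstance, inferInstance, a, h3, h4, ?_⟩
  change a.hom ≫ Spec.map j = N.hom
  rw [hj, Iso.hom_inv_id_assoc]

variable {L : Type u} [Field L] {N : Over (Spec (CommRingCat.of L))} {E : Type u} [CommRing E] [Algebra L E]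
  (a : N.left ≅ Spec (CommRingCat.of E)) (ha : a.hom ≫ Spec.map (CommRingCat.ofHom (algebraMap L E)) = N.hom)

include ha in
theorem exists_algHom {R : Type u} [CommRing R] [Algebra L R] (z : Spec (CommRingCat.of R) ⟶ N.left)
    (hz : z ≫ N.hom = Spec.map (CommRingCat.ofHom (algebraMap L R))) :
    ∃ φ : E →ₐ[L] R, z ≫ a.hom = Spec.map (CommRingCat.ofHom (φ : E →+* R)) := by
  obtain ⟨ψ, hψ⟩ : ∃ ψ : CommRingCat.of E ⟶ CommRingCat.of R, Spec.map ψ = z ≫ a.hom := ⟨_, Spec.map_preimage _⟩
  refine ⟨{ ψ.hom with commutes' := fun x => ?_ }, hψ.symm⟩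
  have h1 : Spec.map (CommRingCat.ofHom (algebraMap L E) ≫ ψ) = Spec.map (CommRingCat.ofHom (algebraMap L R)) := by
    rw [Spec.map_comp, hψ, Category.assoc, ha, hz]
  have h2 := Spec.map_injective h1
  exact congrArg (fun f => f.hom x) h2

include ha in
theorem finite_points {R : Type u} [CommRing R] [Algebra L R] [Finite (E →ₐ[L] R)] :
    Finite {z : Spec (CommRingCat.of R) ⟶ N.left // z ≫ N.hom = Spec.map (CommRingCat.ofHom (algebraMap L R))} := by
  choose φ hφ using fun z : {z : Spec (CommRingCat.of R) ⟶ N.left //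
    z ≫ N.hom = Spec.map (CommRingCat.ofHom (algebraMap L R))} => exists_algHom a ha z.1 z.2
  refine Finite.of_injective φ fun z z' h => Subtype.ext ?_
  rw [← cancel_mono a.hom, hφ, hφ, h]

include ha in
theorem exists_descend {Ω : Type u} [Field Ω] [Algebra L Ω] (F : IntermediateField L Ω)
    (hF : ∀ (φ : E →ₐ[L] Ω) (e : E), φ e ∈ F) (z : Spec (CommRingCat.of Ω) ⟶ N.left) (hz : z ≫ N.hom = gen L Ω) :
    ∃ x : Spec (CommRingCat.of F) ⟶ N.left, x ≫ N.hom = gen L F ∧ z = gen F Ω ≫ x := by
  obtain ⟨φ, hφ⟩ := exists_algHom a ha z hz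
  let φ' : E →ₐ[L] F := φ.codRestrict F.toSubalgebra (hF φ)
  have h1 : (algebraMap F Ω).comp (φ' : E →+* F) = (φ : E →+* Ω) := RingHom.ext fun e => rfl
  refine ⟨Spec.map (CommRingCat.ofHom (φ' : E →+* F)) ≫ a.inv, ?_, ?_⟩
  · rw [← ha, Category.assoc, Iso.inv_hom_id_assoc, ← Spec.map_comp, ← CommRingCat.ofHom_comp]
    congr 2
    exact φ'.comp_algebraMap
  · rw [← Category.assoc, ← Spec.map_comp, ← CommRingCat.ofHom_comp, h1, ← hφ, Category.assoc, Iso.hom_inv_id,
      Category.comp_id]

theorem isReduced_tensor (L F : Type u) [Field L] [Field F] [Algebra L F] [FiniteDimensional L F]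
    [Algebra.IsSeparable L F] : IsReduced (TensorProduct L F F) := by
  have h1 : Algebra.FormallyUnramified L F := Algebra.FormallyUnramified.of_isSeparable L F
  have h2 : Algebra.FormallyUnramified F (TensorProduct L F F) := inferInstance
  have h3 : Algebra.FormallyUnramified L (TensorProduct L F F) :=
    Algebra.FormallyUnramified.comp L F (TensorProduct L F F)
  exact Algebra.FormallyUnramified.isReduced_of_field L (TensorProduct L F F)

/-- The `m`-torsion points of an abelian variety are defined over a finite separable extension containing the `m`-th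
roots of unity; and there are only finitely many torsion points in `F ⊗ F`. -/
theorem exists_field (A : Over (Spec (CommRingCat.of L))) [GrpObj A] [IsCommMonObj A] [IsProper A.hom] [Smooth A.hom]
    [GeometricallyConnected A.hom] (m : ℕ) (hm : (m : L) ≠ 0) :
    ∃ F : IntermediateField L (AlgebraicClosure L), FiniteDimensional L F ∧ Algebra.IsSeparable L F ∧
      (∃ ζ ∈ F, IsPrimitiveRoot ζ m) ∧
      (∀ z : Over.mk (gen L (AlgebraicClosure L)) ⟶ A, z ^ m = 1 →
        ∃ x : Over.mk (gen L F) ⟶ A, z.left = gen F (AlgebraicClosure L) ≫ x.left) ∧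
      Finite {z : (Over.mk (pullback.fst (gen L F) (gen L F) ≫ gen L F) ⟶ A) // z ^ m = 1} := by
  have hm0 : m ≠ 0 := by
    rintro rfl
    exact hm Nat.cast_zero
  let r : L →+* Γ(Spec (CommRingCat.of L), ⊤) := (Scheme.ΓSpecIso (CommRingCat.of L)).inv.hom
  have hm' : IsUnit ((m : ℕ) : Γ(Spec (CommRingCat.of L), ⊤)) := by
    have := (IsUnit.mk0 _ hm).map r
    rwa [map_natCast] at this
  obtain ⟨-, h1, h2, h3, N, hN, hNc, k, hk, hmono, hker, hfin, het⟩ := WMFin.exists_torsion A m hm' hm0
  obtain ⟨E, _, _, a, hE1, hE2, ha⟩ := exists_alg L N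
  obtain ⟨F, hF1, hF2, hF3, hF4⟩ := WMSplit.exists_field L E m hm
  have hlift : ∀ {T : Over (Spec (CommRingCat.of L))} (z : T ⟶ A), z ^ m = 1 → ∃ z' : T ⟶ N, z' ≫ k = z := by
    intro T z hz
    exact Sga3.H739.KerPts.exists_lift hker z (by rw [MonObj.comp_pow, Category.comp_id, hz])
  refine ⟨F, hF1, hF2, hF4, ?_, ?_⟩
  · intro z hz
    obtain ⟨z', rfl⟩ := hlift z hz
    obtain ⟨x, hx1, hx2⟩ := exists_descend a ha F hF3 z'.left (Over.w z')
    refine ⟨Over.homMk x hx1 ≫ k, ?_⟩
    rw [Over.comp_left, Over.comp_left, hx2, Category.assoc]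
    rfl
  · have hR1 := isReduced_tensor L F
    have hR2 : IsArtinianRing (TensorProduct L F F) := isArtinian_of_tower L (inferInstance :
      IsArtinian L (TensorProduct L F F))
    have hR3 := WMSplit.finite_algHom L E (TensorProduct L F F)
    have hR4 := finite_points a ha (R := TensorProduct L F F)
    choose lf hlf using fun z : {z : (Over.mk (pullback.fst (gen L F) (gen L F) ≫ gen L F) ⟶ A) // z ^ m = 1} =>
      hlift z.1 z.2
    refine Finite.of_injective (fun z : {z : (Over.mk (pullback.fst (gen L F) (gen L F) ≫ gen L F) ⟶ A) // z ^ m = 1} =>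
      (⟨(pullbackSpecIso L F F).inv ≫ (lf z).left, ?_⟩ : {z : Spec (CommRingCat.of (TensorProduct L F F)) ⟶ N.left //
        z ≫ N.hom = Spec.map (CommRingCat.ofHom (algebraMap L (TensorProduct L F F)))})) ?_
    · have h4 : (lf z).left ≫ N.hom = pullback.fst (gen L F) (gen L F) ≫ gen L F := Over.w (lf z)
      rw [Category.assoc, h4, pullbackSpecIso_inv_fst_assoc, ← Spec.map_comp, ← CommRingCat.ofHom_comp]
    · intro z z' h
      have h5 : (pullbackSpecIso L F F).inv ≫ (lf z).left = (pullbackSpecIso L F F).inv ≫ (lf z').left :=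
        congrArg Subtype.val h
      rw [cancel_epi] at h5
      apply Subtype.ext
      rw [← hlf, ← hlf]
      congr 1
      exact Over.OverMorphism.ext h5

end K248.WMTors
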