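import Groth.Agent.MultTori.K248.WMDS
import Groth.Agent.GaDual.K771.FppfGm
import Groth.Agent.S0233
import Groth.Agent.CurvesA.H1OfPic
import Groth.Agent.PicF.K246.Basic

/-!
# First fppf cohomology of diagonalizable groups over factorial domains

* `subsingleton_H1_gm`: `H¹_fppf(Spec R, 𝔾_m) = 0` for `R` factorial;
* `fg_H1_DS_of_ufd`: `H¹_fppf(Spec R, D(M))` is finitely generated if `Rˣ` and `M` are.
-/

set_option autoImplicit false
universe u
open CategoryTheory CategoryTheory.Limits MonoidalCategory CartesianMonoidalCategory MonObj GrpObj AlgebraicGeometry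
open Opposite

namespace K248.WMUfd

theorem nonempty_iso_structureModule (R : Type u) [CommRing R] [IsDomain R] [UniqueFactorizationMonoid R]
    (L : (Spec (CommRingCat.of R)).Modules) (hL : PicF.IsInvertible L) :
    Nonempty (L ≅ Coh.structureModule (Spec (CommRingCat.of R))) := by
  have h1 := Groth.Agent.S0233.result R ⊤ (L.restrict (⊤ : (Spec (CommRingCat.of R)).Opens).ι)
    (K246.Basic.isInvertible_restrict hL _)
  exact K246.Basic.nonempty_iso_iff_top.2 (K246.Basic.nonempty_iso_iff.1 h1)

theorem subsingleton_H1_gm (R : Type u) [CommRing R] [IsDomain R] [UniqueFactorizationMonoid R] :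
    Subsingleton (BigSite.H Scheme.fppfPrecoverage (Spec (CommRingCat.of R))
      (CGrpSh.pts Scheme.fppfPrecoverage (Red.DS (Spec (CommRingCat.of R)) ℤ)) 1) := by
  have h1 := Groth.Agent.CurvesA.H1OfPic.subsingleton_H1 (nonempty_iso_structureModule R)
  obtain ⟨e⟩ := K771.FppfGm.nonempty_equiv (Spec (CommRingCat.of R)) 1
  exact e.symm.toEquiv.subsingleton

/-- Over a factorial domain with finitely generated units. -/
theorem fg_H1_DS_of_ufd (R : Type u) [CommRing R] [IsDomain R] [UniqueFactorizationMonoid R] (hR : Group.FG Rˣ)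
    (M : Type) [AddCommGroup M] (hM : AddGroup.FG M) : WMDS.P (Spec (CommRingCat.of R)) M := by
  refine WMDS.fg_H1_DS ?_ ?_ M hM
  · let ε : R ≃* Γ(Spec (CommRingCat.of R), ⊤) :=
      (Scheme.ΓSpecIso (CommRingCat.of R)).symm.commRingCatIsoToRingEquiv.toMulEquiv
    exact Group.fg_of_surjective (f := (Units.mapEquiv ε).toMonoidHom) (Units.mapEquiv ε).surjective
  · have := subsingleton_H1_gm R
    unfold WMDS.P
    infer_instance

end K248.WMUfd
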