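import Groth.Agent.MultTori.K248.WMRing
import Groth.Agent.MultTori.K248.WMTors
import Groth.Agent.MultTori.K248.WMModel

/-!
# The weak Mordell–Weil theorem over finitely generated fields

`main`: if every finitely generated field of transcendence degree `n` has a factorial model then `A(L) / m` is finite
for every abelian variety `A` over such a field `L` and every `m` invertible in `L`.
-/

set_option autoImplicit false
universe u
open CategoryTheory MonoidalCategory CartesianMonoidalCategory MonObj GrpObj AlgebraicGeometry Limits Opposite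

namespace K248.WeakMW

open Groth.Agent WMPts Groth.Agent.MultTori.K605.Defs

/-- Transport of the finiteness of `G / m` along an isomorphism. -/
theorem finiteIndex_of_mulEquiv {G H : Type*} [CommGroup G] [CommGroup H] (e : G ≃* H) (m : ℕ)
    (h : (powMonoidHom (α := G) m).range.FiniteIndex) : (powMonoidHom (α := H) m).range.FiniteIndex := by
  have h1 : (powMonoidHom (α := H) m).range = (powMonoidHom (α := G) m).range.map e.toMonoidHom := by
    ext y
    constructor
    · rintro ⟨x, rfl⟩
      exact ⟨powMonoidHom m (e.symm x), ⟨_, rfl⟩, by simp⟩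
    · rintro ⟨_, ⟨x, rfl⟩, rfl⟩
      exact ⟨e x, by simp⟩
  rw [h1]
  have h2 : (powMonoidHom (α := G) m).range.map e.toMonoidHom =
      (powMonoidHom (α := G) m).range.comap e.symm.toMonoidHom := by
    exact Subgroup.map_equiv_eq_comap_symm e _
  rw [h2]
  exact ⟨by rw [Subgroup.index_comap_of_surjective _ e.symm.surjective]; exact h.index_ne_zero⟩

/-- Points of a base change. -/
noncomputable def secEquiv {S S' : Scheme.{u}} (g : S' ⟶ S) (P : Over S) [GrpObj P] :
    (Over.mk g ⟶ P) ≃* (𝟙_ (Over S') ⟶ Red.bc g P) :=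
  MulEquiv.ofBijective (MonoidHom.mk' (fun a => K776.TwExt.secOf g a) (fun a b => K776.TwExt.secOf_mul g a b)) (by
    constructor
    · intro a b hab
      apply Over.OverMorphism.ext
      rw [← K776.TwExt.secOf_left_fst g a, ← K776.TwExt.secOf_left_fst g b]
      exact congrArg (fun z : 𝟙_ (Over S') ⟶ Red.bc g P => z.left ≫ pullback.fst P.hom g) hab
    · intro z
      have h2 : (z.left ≫ pullback.fst P.hom g) ≫ P.hom = g := by
        rw [Category.assoc, pullback.condition, ← Category.assoc]
        have h3 : z.left ≫ pullback.snd P.hom g = 𝟙 _ := Over.w z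
        rw [h3, Category.id_comp]
      refine ⟨Over.homMk (z.left ≫ pullback.fst P.hom g) h2, ?_⟩
      apply Over.OverMorphism.ext
      apply pullback.hom_ext
      · exact K776.TwExt.secOf_left_fst g _
      · exact (K776.TwExt.secOf_left_snd g _).trans (Over.w z).symm)

/-- Points of the base change with values in a scheme over the new base. -/
theorem exists_bcPt {S S' T : Scheme.{u}} (g : S' ⟶ S) (t : T ⟶ S') (P : Over S) [GrpObj P] :
    ∃ φ : (Over.mk (t ≫ g) ⟶ P) ≃* (Over.mk t ⟶ Red.bc g P),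
      ∀ z, (φ z).left ≫ pullback.fst P.hom g = z.left := by
  refine ⟨Sga3B.BcPts.bcMulEquiv g (Over.mk t) P, fun z => ?_⟩
  exact K776.TwExt.bcEquiv_left_fst (T := Over.mk t) (P := P) g z

/-- Transport of the rationality of the torsion. -/
theorem split_of_iso {L F Ω B : Type u} [Field L] [Field F] [Field Ω] [CommRing B] [Algebra L F] [Algebra F Ω]
    [Algebra L Ω] [IsScalarTower L F Ω] [Algebra B F] [Algebra B Ω] [IsScalarTower B F Ω]
    (A : Over (Spec (CommRingCat.of L))) [GrpObj A] (X : Over (Spec (CommRingCat.of B))) [GrpObj X] (m : ℕ)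
    (e : Grp.mk (Red.bc (gen B F) X) ≅ Grp.mk (Red.bc (gen L F) A))
    (h : ∀ z : Over.mk (gen L Ω) ⟶ A, z ^ m = 1 → ∃ x : Over.mk (gen L F) ⟶ A, z.left = gen F Ω ≫ x.left) :
    WMFin.Split B F Ω m X := by
  intro z hz
  have hgB : gen F Ω ≫ gen B F = gen B Ω := by
    rw [← Spec.map_comp, ← CommRingCat.ofHom_comp, ← IsScalarTower.algebraMap_eq B F Ω]
  have hgL : gen F Ω ≫ gen L F = gen L Ω := by
    rw [← Spec.map_comp, ← CommRingCat.ofHom_comp, ← IsScalarTower.algebraMap_eq L F Ω]
  rw [← hgL] at h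
  revert z
  rw [← hgB]
  intro z hz
  obtain ⟨φ, hφ⟩ := exists_bcPt (gen B F) (gen F Ω) X
  obtain ⟨ψ, hψ⟩ := exists_bcPt (gen L F) (gen F Ω) A
  have i1 : IsMonHom e.hom.hom.hom := inferInstance
  let w : Over.mk (gen F Ω ≫ gen L F) ⟶ A := ψ.symm (φ z ≫ e.hom.hom.hom)
  have hw : w ^ m = 1 := by
    rw [← map_pow, ← MonObj.pow_comp, ← map_pow, hz, map_one, MonObj.one_comp, map_one]
  obtain ⟨x, hx⟩ := h w hw
  let y : 𝟙_ (Over (Spec (CommRingCat.of F))) ⟶ Red.bc (gen L F) A := secEquiv (gen L F) A x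
  have hy : y.left ≫ pullback.fst A.hom (gen L F) = x.left := K776.TwExt.secOf_left_fst (gen L F) x
  have h1 : φ z ≫ e.hom.hom.hom = toUnit (Over.mk (gen F Ω)) ≫ y := by
    have h2 : ψ w = φ z ≫ e.hom.hom.hom := ψ.apply_symm_apply _
    rw [← h2]
    apply Over.OverMorphism.ext
    apply pullback.hom_ext
    · rw [WMFin.toUnit_comp_left, Category.assoc]
      refine (hψ w).trans (hx.trans ?_)
      rw [← hy]
      rfl
    · exact (Over.w (ψ w)).trans (Over.w (toUnit (Over.mk (gen F Ω)) ≫ y)).symm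
  let x' : 𝟙_ (Over (Spec (CommRingCat.of F))) ⟶ Red.bc (gen B F) X := y ≫ e.inv.hom.hom
  have h3 : φ z = toUnit (Over.mk (gen F Ω)) ≫ x' := by
    have h4 : e.hom.hom.hom ≫ e.inv.hom.hom = 𝟙 _ := congrArg (fun z => z.hom.hom) e.hom_inv_id
    calc φ z = φ z ≫ e.hom.hom.hom ≫ e.inv.hom.hom := by rw [h4, Category.comp_id]
      _ = (φ z ≫ e.hom.hom.hom) ≫ e.inv.hom.hom := (Category.assoc _ _ _).symm
      _ = toUnit (Over.mk (gen F Ω)) ≫ x' := by rw [h1, Category.assoc]
  refine ⟨x'.left ≫ pullback.fst X.hom (gen B F), ?_, ?_⟩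
  · rw [Category.assoc, pullback.condition, ← Category.assoc]
    have h5 : x'.left ≫ pullback.snd X.hom (gen B F) = 𝟙 _ := Over.w x'
    rw [h5]
    exact Category.id_comp _
  · rw [← hφ z, h3, WMFin.toUnit_comp_left, Category.assoc]
    rfl

/-- **Weak Mordell–Weil** over the field of fractions of a factorial regular ring of finite type over `ℤ` for which
the splitting fields have factorial models too. -/
theorem finiteIndex {L : Type u} [Field L] (A : Over (Spec (CommRingCat.of L))) [GrpObj A] [IsCommMonObj A]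
    [IsProper A.hom] [Smooth A.hom] [GeometricallyConnected A.hom] (m : ℕ) (hm : (m : L) ≠ 0)
    (hU : ∀ F : IntermediateField L (AlgebraicClosure L), FiniteDimensional L F → Algebra.IsSeparable L F →
      HasUFD F) :
    (powMonoidHom (α := (𝟙_ (Over (Spec (CommRingCat.of L))) ⟶ A)) m).range.FiniteIndex := by
  have hm0 : NeZero m := ⟨by rintro rfl; exact hm Nat.cast_zero⟩
  obtain ⟨F, hF1, hF2, ⟨ζ, hζF, hζ⟩, hF3, hF4⟩ := WMTors.exists_field A m hm
  let Ω := AlgebraicClosure L
  let A' := Red.bc (gen L F) A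
  have iA1 : IsProper A'.hom := inferInstanceAs (IsProper (pullback.snd A.hom (gen L F)))
  have iA2 : Smooth A'.hom := inferInstanceAs (Smooth (pullback.snd A.hom (gen L F)))
  have iA3 : GeometricallyConnected A'.hom :=
    inferInstanceAs (GeometricallyConnected (pullback.snd A.hom (gen L F)))
  obtain ⟨R₀, hR₀, hmod⟩ := WMModel.exists_model F A'
  have hmF : (m : F) ≠ 0 := by
    rw [← map_natCast (algebraMap L F), Ne, map_eq_zero]
    exact hm
  obtain ⟨B, _, _, _, hB1, hB2, hB3, hB4, hB5, hB6⟩ := WMRing.exists_model F (hU F hF1 hF2) R₀ hR₀ m hmF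
  obtain ⟨X, _, hX1, hX2, hX3, ⟨e⟩⟩ := hmod B (IsFractionRing.injective B F) hB6
  have hXc : IsCommMonObj X := by
    have hgr := K448.SmoothConn.geometricallyReduced X.hom
    exact S7785.result X
  let _ : Algebra B Ω := ((algebraMap F Ω).comp (algebraMap B F)).toAlgebra
  have hT : IsScalarTower B F Ω := IsScalarTower.of_algebraMap_eq fun x => rfl
  have hs : WMFin.Split B F Ω m X := split_of_iso A X m e hF3
  have hIC : IsIntegrallyClosed B := inferInstance
  have hζ' : IsPrimitiveRoot (⟨ζ, hζF⟩ : F) m :=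
    IsPrimitiveRoot.of_map_of_injective (f := algebraMap F Ω) hζ (algebraMap F Ω).injective
  obtain ⟨ξ, hξ, hξu⟩ := WMRing.exists_root m hB5 (⟨ζ, hζF⟩ : F) hζ'
  have h1 := WMFin.finiteIndex (F := F) hB4 X m hB5 Ω hs ξ hξ hξu
  obtain ⟨φ, -⟩ := exists_mulEquiv (F := F) X
  have iA' : IsCommMonObj (Red.bc (gen B F) X) := inferInstance
  have iA'' : IsCommMonObj A' := inferInstanceAs (IsCommMonObj (Red.bc (gen L F) A))
  have h2 := finiteIndex_of_mulEquiv φ m h1
  have i1 : IsMonHom e.hom.hom.hom := inferInstance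
  let e' : Red.bc (gen B F) X ≅ A' := (Grp.forget _).mapIso e
  let ε : (𝟙_ (Over (Spec (CommRingCat.of F))) ⟶ Red.bc (gen B F) X) ≃*
      (𝟙_ (Over (Spec (CommRingCat.of F))) ⟶ A') :=
    { toFun := fun x => x ≫ e'.hom
      invFun := fun x => x ≫ e'.inv
      left_inv := fun x => by simp
      right_inv := fun x => by simp
      map_mul' := fun x y => MonObj.mul_comp _ _ _ }
  have h3 := finiteIndex_of_mulEquiv ε m h2
  have h4 := finiteIndex_of_mulEquiv (secEquiv (gen L F) A).symm m h3
  have hfin : Module.Finite L F := hF1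
  have g1 : Surjective (gen L F) :=
    ⟨fun y => ⟨IsLocalRing.closedPoint F, Subsingleton.elim (α := PrimeSpectrum L) _ _⟩⟩
  have g2 : Flat (gen L F) := by
    rw [HasRingHomProperty.Spec_iff (P := @Flat)]
    exact RingHom.flat_algebraMap_iff.2 inferInstance
  exact WMDesc.finiteIndex_descent (gen L F) A m h4 hF4

/-- **The weak Mordell–Weil theorem** over finitely generated fields. -/
theorem main (n : ℕ) (hU : U.{u} n) (L : Type u) [Field L] (hL : IsFG n L) (A : Over (Spec (CommRingCat.of L)))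
    [GrpObj A] [IsCommMonObj A] [IsProper A.hom] [Smooth A.hom] [GeometricallyConnected A.hom] (m : ℕ)
    (hm : (m : L) ≠ 0) :
    (powMonoidHom (α := (𝟙_ (Over (Spec (CommRingCat.of L))) ⟶ A)) m).range.FiniteIndex :=
  finiteIndex A m hm fun F _ _ => hU F (WMRing.isFG_ext n L F hL)

end K248.WeakMW
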